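import Mathlib
import Cfsg.Agent.H125.ReeCounts
import Cfsg.Agent.LieRecognition.ReeThree
set_option linter.all false

-- part: H147/ModTrace
section
/-!
# A vanishing theorem for class functions modulo `p`

If `ψ : G → 𝔽_p` is a class function whose sums over the cosets `gP` of a `p`-subgroup `P` vanish, then
`∑ a, ψ (a x a⁻¹ y) = 0` for all `x, y`.
-/

set_option autoImplicit false
set_option linter.unusedSectionVars false

namespace Cfsg.Agent.H147.ModTrace

open Matrix (mulVec toLin')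
open scoped Matrix

variable {G : Type*} [Group G] [Fintype G] [DecidableEq G] {p : ℕ} [Fact p.Prime]

/-- cosets -/
noncomputable def cosetEquiv (P : Subgroup G) : (G ⧸ P) × P ≃ G := by
  refine Equiv.ofBijective (fun c => c.1.out * (c.2 : G)) ⟨?_, ?_⟩
  · rintro ⟨c, u⟩ ⟨c', u'⟩ h
    simp only at h
    have h1 : ∀ (c : G ⧸ P) (u : P), ((c.out * (u : G) : G) : G ⧸ P) = c := by
      intro c u
      rw [← QuotientGroup.out_eq' c, QuotientGroup.eq]
      simp
    have h2 : c = c' := by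
      rw [← h1 c u, ← h1 c' u', h]
    subst h2
    rw [Prod.mk.injEq]
    exact ⟨rfl, Subtype.ext (mul_left_cancel h)⟩
  · intro g
    refine ⟨((g : G ⧸ P), ⟨(g : G ⧸ P).out⁻¹ * g, ?_⟩), ?_⟩
    · rw [← QuotientGroup.eq, QuotientGroup.out_eq']
    · simp

theorem cosetEquiv_apply (P : Subgroup G) (c : (G ⧸ P) × P) : cosetEquiv P c = c.1.out * (c.2 : G) := rfl

/-- the matrix of the convolution operator -/
def A (ψ : G → ZMod p) : Matrix G G (ZMod p) := Matrix.of fun g l => ψ (g * l⁻¹)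

theorem A_apply (ψ : G → ZMod p) (g l : G) : A ψ g l = ψ (g * l⁻¹) := rfl

/-- the left translation -/
def lt (u : G) (f : G → ZMod p) : G → ZMod p := fun g => f (u⁻¹ * g)

theorem mulVec_lt (ψ : G → ZMod p) (hψ : ∀ g x, ψ (g * x * g⁻¹) = ψ x) (u : G) (f : G → ZMod p) :
    A ψ *ᵥ (lt u f) = lt u (A ψ *ᵥ f) := by
  funext g
  simp only [mulVec, dotProduct, A_apply, lt]
  rw [← Equiv.sum_comp (Equiv.mulLeft u)]
  apply Finset.sum_congr rfl
  intro k _
  simp only [Equiv.coe_mulLeft, inv_mul_cancel_left, mul_inv_rev]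
  rw [← hψ u⁻¹]
  congr 2
  group

theorem mulVec_eq_zero (P : Subgroup G) [Fintype P] (ψ : G → ZMod p) (h0 : ∀ g, ∑ u : P, ψ (g * u) = 0)
    (f : G → ZMod p) (hf : ∀ u ∈ P, lt u f = f) : A ψ *ᵥ f = 0 := by
  classical
  funext g
  simp only [mulVec, dotProduct, A_apply, Pi.zero_apply]
  rw [← Equiv.sum_comp (Equiv.inv G)]
  simp only [Equiv.inv_apply, inv_inv]
  rw [← Equiv.sum_comp (cosetEquiv P), Fintype.sum_prod_type]
  apply Finset.sum_eq_zero
  intro c _
  have h1 : ∀ u : P, f (cosetEquiv P (c, u))⁻¹ = f (c.out)⁻¹ := by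
    intro u
    rw [cosetEquiv_apply, mul_inv_rev]
    exact congrFun (hf u u.2) _
  have h2 : ∀ u : P, ψ (g * cosetEquiv P (c, u)) * f (cosetEquiv P (c, u))⁻¹ =
      ψ (g * c.out * u) * f (c.out)⁻¹ := by
    intro u
    rw [h1, cosetEquiv_apply, mul_assoc]
  rw [Finset.sum_congr rfl (fun u _ => h2 u), ← Finset.sum_mul, h0, zero_mul]

theorem isNilpotent_A (P : Subgroup G) [Fintype P] (hP : IsPGroup p P) (ψ : G → ZMod p)
    (hψ : ∀ g x, ψ (g * x * g⁻¹) = ψ x) (h0 : ∀ g, ∑ u : P, ψ (g * u) = 0) : IsNilpotent (A ψ) := by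
  classical
  rw [← Matrix.isNilpotent_toLin'_iff]
  set M : Module.End (ZMod p) (G → ZMod p) := toLin' (A ψ) with hM
  obtain ⟨N, hN1, hN2⟩ := ((Module.End.eventually_disjoint_ker_pow_range_pow M).and
    (Filter.eventually_ge_atTop 1)).exists
  refine ⟨N, ?_⟩
  by_contra hne
  set W : Submodule (ZMod p) (G → ZMod p) := LinearMap.range (M ^ N) with hW
  have hMlt : ∀ (u : G) (k : ℕ) (f : G → ZMod p), (M ^ k) (lt u f) = lt u ((M ^ k) f) := by
    intro u k
    induction k with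
    | zero => intro f; rfl
    | succ k ih =>
      intro f
      rw [pow_succ', Module.End.mul_apply, Module.End.mul_apply, ih]
      exact mulVec_lt ψ hψ u _
  let act : MulAction P W :=
    { smul := fun u w => ⟨lt (u : G) w.1, by
        obtain ⟨f, hf⟩ := w.2
        exact ⟨lt (u : G) f, by rw [hMlt, hf]⟩⟩
      one_smul := by
        intro w
        apply Subtype.ext
        funext g
        show w.1 ((1 : G)⁻¹ * g) = w.1 g
        rw [inv_one, one_mul]
      mul_smul := by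
        intro u u' w
        apply Subtype.ext
        funext g
        show w.1 (((u * u' : P) : G)⁻¹ * g) = w.1 ((u' : G)⁻¹ * ((u : G)⁻¹ * g))
        rw [Subgroup.coe_mul, mul_inv_rev, mul_assoc] }
  have hWne : W ≠ ⊥ := by
    intro h
    apply hne
    rw [hW, LinearMap.range_eq_bot] at h
    exact h
  have hdvd : p ∣ Nat.card W := by
    have := Fintype.ofFinite W
    rw [Nat.card_eq_fintype_card, Module.card_eq_pow_finrank (K := ZMod p), ZMod.card]
    apply dvd_pow_self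
    intro h
    exact hWne (Submodule.finrank_eq_zero.1 h)
  obtain ⟨w, hw, hw0⟩ := hP.exists_fixed_point_of_prime_dvd_card_of_fixed_point W hdvd (a := (0 : W)) (by
    intro u
    apply Subtype.ext
    funext g
    rfl)
  have h1 : M w.1 = 0 := by
    apply mulVec_eq_zero P ψ h0
    intro u hu
    exact congrArg Subtype.val (hw ⟨u, hu⟩)
  have h2 : w.1 ∈ LinearMap.ker (M ^ N) := by
    rw [LinearMap.mem_ker]
    obtain ⟨k, rfl⟩ : ∃ k, N = k + 1 := ⟨N - 1, by omega⟩
    rw [pow_succ, Module.End.mul_apply, h1, map_zero]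
  have h3 : w.1 ∈ (⊥ : Submodule (ZMod p) (G → ZMod p)) := hN1.le_bot ⟨h2, w.2⟩
  apply hw0
  apply Subtype.ext
  exact ((Submodule.mem_bot _).1 h3).symm

/-- the vanishing theorem -/
theorem sum_conj_eq_zero (P : Subgroup G) [Fintype P] (hP : IsPGroup p P) (ψ : G → ZMod p)
    (hψ : ∀ g x, ψ (g * x * g⁻¹) = ψ x) (h0 : ∀ g, ∑ u : P, ψ (g * u) = 0) (x y : G) :
    ∑ a : G, ψ (a * x * a⁻¹ * y) = 0 := by
  classical
  let T : Matrix G G (ZMod p) := Matrix.of fun k l => if l = y * k * x then 1 else 0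
  have hT : ∀ k l, T k l = if l = y * k * x then 1 else 0 := fun k l => rfl
  have h1 : ∀ g l, (A ψ * T) g l = ψ (g * x * l⁻¹ * y) := by
    intro g l
    rw [Matrix.mul_apply, Finset.sum_eq_single (y⁻¹ * l * x⁻¹)]
    · rw [hT, if_pos (by group), mul_one, A_apply]
      congr 1
      group
    · intro k _ hk
      rw [hT, if_neg, mul_zero]
      rintro rfl
      exact hk (by group)
    · intro h
      exact absurd (Finset.mem_univ _) h
  have h2 : ∀ g l, (T * A ψ) g l = ψ (g * x * l⁻¹ * y) := by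
    intro g l
    rw [Matrix.mul_apply, Finset.sum_eq_single (y * g * x)]
    · rw [hT, if_pos rfl, one_mul, A_apply, ← hψ y⁻¹]
      congr 1
      group
    · intro k _ hk
      rw [hT, if_neg hk, zero_mul]
    · intro h
      exact absurd (Finset.mem_univ _) h
  have h3 : Commute (A ψ) T := by
    ext g l
    rw [h1, h2]
  have h4 : IsNilpotent (A ψ * T) := h3.isNilpotent_mul_right (isNilpotent_A P hP ψ hψ h0)
  have h5 := (Matrix.isNilpotent_trace_of_isNilpotent h4).eq_zero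
  rw [Matrix.trace] at h5
  simpa only [Matrix.diag_apply, h1] using h5

end Cfsg.Agent.H147.ModTrace
end

-- part: H147/TwoTransMod
section
/-!
# Fixed points in two-transitive groups modulo `p`
-/

set_option autoImplicit false
set_option linter.unusedSectionVars false

namespace Cfsg.Agent.H147.TwoTransMod

variable {G Ω : Type*} [Group G] [Fintype G] [MulAction G Ω] [Fintype Ω] [DecidableEq Ω] {R : Type*}
  [CommRing R]

/-- the number of fixed points -/
def F (R : Type*) [CommRing R] (Ω : Type*) [MulAction G Ω] [Fintype Ω] [DecidableEq Ω] (g : G) : R :=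
  ∑ ω : Ω, if g • ω = ω then 1 else 0

theorem F_conj (g x : G) : F R Ω (g * x * g⁻¹) = F R Ω x := by
  unfold F
  rw [← Equiv.sum_comp (MulAction.toPerm g : Equiv.Perm Ω)]
  apply Finset.sum_congr rfl
  intro ω _
  have h : (g * x * g⁻¹) • (MulAction.toPerm g ω) = MulAction.toPerm g ω ↔ x • ω = ω := by
    rw [MulAction.toPerm_apply, mul_smul, mul_smul, inv_smul_smul, smul_left_cancel_iff]
  by_cases h1 : x • ω = ω
  · rw [if_pos h1, if_pos (h.2 h1)]
  · rw [if_neg h1, if_neg (fun h2 => h1 (h.1 h2))]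

/-- the convolution of the permutation character with itself -/
theorem sum_F (b c : R) (h1 : ∀ ω π : Ω, ∑ a : G, (if a • ω = π then (1 : R) else 0) = b)
    (h2 : ∀ ω₁ ω₂ π₁ π₂ : Ω, ω₁ ≠ ω₂ → π₁ ≠ π₂ →
      ∑ a : G, (if a • ω₁ = π₁ ∧ a • ω₂ = π₂ then (1 : R) else 0) = c) (x y : G) :
    ∑ a : G, F R Ω (a * x * a⁻¹ * y) =
      F R Ω x * F R Ω y * b + ((Fintype.card Ω : R) - F R Ω x) * ((Fintype.card Ω : R) - F R Ω y) * c := by
  have e0 : ∀ g : G, ∑ ω : Ω, (if g • ω = ω then (0 : R) else 1) = (Fintype.card Ω : R) - F R Ω g := by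
    intro g
    unfold F
    rw [eq_sub_iff_add_eq, ← Finset.sum_add_distrib, ← Finset.card_univ, Finset.card_eq_sum_ones,
      Nat.cast_sum]
    apply Finset.sum_congr rfl
    intro ω _
    split_ifs <;> simp
  have e1 : ∀ ω : Ω, ∑ a : G, (if (a * x * a⁻¹ * y) • ω = ω then (1 : R) else 0) =
      (if y • ω = ω then (1 : R) else 0) * (F R Ω x * b) +
      (if y • ω = ω then (0 : R) else 1) * (((Fintype.card Ω : R) - F R Ω x) * c) := by
    intro ω
    rw [← Equiv.sum_comp (Equiv.inv G)]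
    have e2 : ∀ a : G, (if ((Equiv.inv G) a * x * ((Equiv.inv G) a)⁻¹ * y) • ω = ω then (1 : R) else 0) =
        ∑ π : Ω, (if a • (y • ω) = π ∧ a • ω = x • π then (1 : R) else 0) := by
      intro a
      rw [Finset.sum_eq_single (a • (y • ω))]
      · have h : ((Equiv.inv G) a * x * ((Equiv.inv G) a)⁻¹ * y) • ω = ω ↔ a • ω = x • (a • (y • ω)) := by
          rw [Equiv.inv_apply, inv_inv, mul_smul, mul_smul, mul_smul, inv_smul_eq_iff]
          exact eq_comm
        by_cases h3 : a • ω = x • (a • (y • ω))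
        · rw [if_pos (h.2 h3), if_pos ⟨rfl, h3⟩]
        · rw [if_neg (fun h4 => h3 (h.1 h4)), if_neg (fun h4 => h3 h4.2)]
      · intro π _ hπ
        rw [if_neg]
        rintro ⟨rfl, -⟩
        exact hπ rfl
      · intro h
        exact absurd (Finset.mem_univ _) h
    rw [Finset.sum_congr rfl (fun a _ => e2 a), Finset.sum_comm]
    by_cases hy : y • ω = ω
    · rw [if_pos hy, if_pos hy, hy, zero_mul, add_zero, one_mul]
      unfold F
      rw [Finset.sum_mul]
      apply Finset.sum_congr rfl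
      intro π _
      by_cases hx : x • π = π
      · rw [if_pos hx, one_mul, hx, ← h1 ω π]
        apply Finset.sum_congr rfl
        intro a _
        simp only [and_self_iff]
      · rw [if_neg hx, zero_mul]
        apply Finset.sum_eq_zero
        intro a _
        rw [if_neg]
        rintro ⟨h3, h4⟩
        exact hx (h4.symm.trans h3)
    · rw [if_neg hy, if_neg hy, zero_mul, zero_add, one_mul, ← e0, Finset.sum_mul]
      apply Finset.sum_congr rfl
      intro π _
      by_cases hx : x • π = π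
      · rw [if_pos hx, zero_mul, hx]
        apply Finset.sum_eq_zero
        intro a _
        rw [if_neg]
        rintro ⟨h3, h4⟩
        exact hy (smul_left_cancel a (h3.trans h4.symm))
      · rw [if_neg hx, one_mul]
        exact h2 _ _ _ _ hy (fun h => hx h.symm)
  unfold F
  rw [Finset.sum_comm, Finset.sum_congr rfl (fun ω _ => e1 ω), Finset.sum_add_distrib, ← Finset.sum_mul,
    ← Finset.sum_mul, e0]
  unfold F
  ring

end Cfsg.Agent.H147.TwoTransMod
end

-- part: H147/ReeCls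
section
/-!
# Small Ree groups: the classes of the elements of order greater than two prime to three

They are told apart by a class function (the trace).
-/

set_option autoImplicit false
set_option linter.unusedSectionVars false

namespace Cfsg.Agent.H147.ReeCls

open Subgroup
open Cfsg.Agent.LieRecognition
open Cfsg.Agent.LieRecognition.ReeInv
open Cfsg.Agent.LieRecognition.ReeTorusB
open Cfsg.Agent.LieRecognition.ReeClass
open Cfsg.Agent.H125.ReeFull

section general

variable {G : Type*} [Group G] [Finite G]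

theorem card_cent_conj (g x : G) :
    Nat.card (centralizer {g⁻¹ * x * g} : Subgroup G) = Nat.card (centralizer {x} : Subgroup G) := by
  symm
  refine Nat.card_congr
    { toFun := fun y => ⟨g⁻¹ * y * g, ?_⟩
      invFun := fun y => ⟨g * y * g⁻¹, ?_⟩
      left_inv := ?_
      right_inv := ?_ }
  · rw [mem_centralizer_singleton_iff]
    exact conj_comm (mem_centralizer_singleton_iff.1 y.2) g
  · have h := mem_centralizer_singleton_iff.1 y.2
    rw [mem_centralizer_singleton_iff]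
    calc g * (y : G) * g⁻¹ * x = g * ((y : G) * (g⁻¹ * x * g)) * g⁻¹ := by group
      _ = g * ((g⁻¹ * x * g) * y) * g⁻¹ := by rw [h]
      _ = _ := by group
  · intro y
    apply Subtype.ext
    simp only
    group
  · intro y
    apply Subtype.ext
    simp only
    group

/-- the class equation for one class -/
theorem card_class_mul (x : G) : Nat.card {y : G // IsConj x y} *
    Nat.card (centralizer {x} : Subgroup G) = Nat.card G := by
  have h1 := card_orbit_conj (⊤ : Subgroup G) x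
  rw [top_inf_eq, Nat.card_congr (Subgroup.topEquiv (G := G)).toEquiv] at h1
  rw [h1]
  congr 1
  apply Nat.card_congr
  apply Equiv.subtypeEquivRight
  intro y
  rw [isConj_iff]
  constructor
  · rintro ⟨g, hg⟩
    exact ⟨g, mem_top _, hg⟩
  · rintro ⟨g, -, hg⟩
    exact ⟨g, hg⟩

/-- a lower bound for the sum of the orders of the centralisers -/
theorem card_mul_le [Fintype G] {ι : Type*} [Fintype ι] (R : Finset G)
    (hR : ∀ x ∈ R, ∀ y, IsConj x y → y ∈ R) (y : ι → G) (hy : ∀ i, y i ∈ R)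
    (hne : ∀ i j, IsConj (y i) (y j) → i = j) :
    Fintype.card ι * Nat.card G ≤ ∑ x ∈ R, Nat.card (centralizer {x} : Subgroup G) := by
  classical
  set c : ι → Finset G := fun i => Finset.univ.filter fun z => IsConj (y i) z with hc
  have h1 : (Finset.univ.biUnion c) ⊆ R := by
    intro z hz
    rw [Finset.mem_biUnion] at hz
    obtain ⟨i, -, hi⟩ := hz
    rw [hc, Finset.mem_filter] at hi
    exact hR _ (hy i) _ hi.2
  refine le_trans ?_ (Finset.sum_le_sum_of_subset h1)
  rw [Finset.sum_biUnion]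
  · have h2 : ∀ i, ∑ x ∈ c i, Nat.card (centralizer {x} : Subgroup G) = Nat.card G := by
      intro i
      rw [← card_class_mul (y i)]
      have h3 : ∀ x ∈ c i, Nat.card (centralizer {x} : Subgroup G) =
          Nat.card (centralizer {y i} : Subgroup G) := by
        intro x hx
        rw [hc, Finset.mem_filter] at hx
        obtain ⟨g, rfl⟩ := isConj_iff.1 hx.2
        have := card_cent_conj g⁻¹ (y i)
        rwa [inv_inv] at this
      rw [Finset.sum_congr rfl h3, Finset.sum_const, smul_eq_mul]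
      congr 1
      rw [hc, ← Fintype.card_subtype, Nat.card_eq_fintype_card]
    rw [Finset.sum_congr rfl (fun i _ => h2 i), Finset.sum_const, smul_eq_mul, Finset.card_univ]
  · intro i _ j _ hij
    rw [Function.onFun, Finset.disjoint_left]
    intro z hz hz'
    rw [hc, Finset.mem_filter] at hz hz'
    exact hij (hne i j (hz.2.trans hz'.2.symm))

/-- an upper bound for the sum of the orders of the centralisers over the conjugates of a TI set -/
theorem sum_conj_le [Fintype G] [DecidableEq G] (s : Set G) (N : Subgroup G) (c : ℕ)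
    (hN : ∀ n ∈ N, ∀ x ∈ s, n⁻¹ * x * n ∈ s)
    (hTI : ∀ x ∈ s, ∀ g, g⁻¹ * x * g ∈ s → g ∈ N)
    (hc : ∀ x ∈ s, Nat.card (centralizer {x} : Subgroup G) ≤ c)
    [DecidablePred fun y : G => ∃ g : G, g⁻¹ * y * g ∈ s] :
    (∑ x ∈ Finset.univ.filter (fun y : G => ∃ g : G, g⁻¹ * y * g ∈ s),
      Nat.card (centralizer {x} : Subgroup G)) * Nat.card N ≤ Nat.card G * Nat.card s * c := by
  rw [← card_conj_set s N hN hTI]
  have h1 : ∑ x ∈ Finset.univ.filter (fun y : G => ∃ g : G, g⁻¹ * y * g ∈ s),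
      Nat.card (centralizer {x} : Subgroup G) ≤
      Nat.card {y : G // ∃ g : G, g⁻¹ * y * g ∈ s} * c := by
    rw [Nat.card_eq_fintype_card, Fintype.card_subtype, ← smul_eq_mul]
    apply Finset.sum_le_card_nsmul
    intro x hx
    rw [Finset.mem_filter] at hx
    obtain ⟨-, g, hg⟩ := hx
    rw [← card_cent_conj g]
    exact hc _ hg
  calc _ ≤ (Nat.card {y : G // ∃ g : G, g⁻¹ * y * g ∈ s} * c) * Nat.card N := Nat.mul_le_mul_right _ h1
    _ = _ := by ring

end general

variable {K : Type*} [Field K] [Fintype K] {G : Type*} [Group G] [Finite G] {m : ℕ}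
  {U : K → K → K → G} {h : Kˣ → G} {n : G}
variable {L : Type*} [Group L] {a : G} {f : L →* G} {i j u t₀ : L} {T : Subgroup L} {q : ℕ}

/-- the elements considered -/
def Reg (x : G) : Prop := 2 < orderOf x ∧ ¬ 3 ∣ orderOf x

theorem reg_conj {x : G} (hx : Reg x) (g : G) : Reg (g⁻¹ * x * g) := by
  unfold Reg
  rw [ReeClass.orderOf_conj]
  exact hx

theorem reg_of_isConj {x y : G} (hx : Reg x) (hxy : IsConj x y) : Reg y := by
  obtain ⟨g, rfl⟩ := isConj_iff.1 hxy
  have := reg_conj hx g⁻¹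
  rwa [inv_inv] at this

theorem Reg.sq_ne {x : G} (hx : Reg x) : x ^ 2 ≠ 1 := by
  intro h
  have := Nat.le_of_dvd (by norm_num) (orderOf_dvd_of_pow_eq_one h)
  have := hx.1
  omega

/-- squares have odd order -/
theorem odd_sq (S : Setup G L q a f i j u t₀ T) (x : G) : Odd (orderOf (x ^ 2)) := by
  obtain ⟨k, m', hm', hk⟩ := Nat.exists_eq_two_pow_mul_odd (orderOf_pos x).ne'
  have h1 : (x ^ m') ^ (2 ^ k) = 1 := by
    rw [← pow_mul, mul_comm, ← hk, pow_orderOf_eq_one]
  have hP : IsPGroup 2 (zpowers (x ^ m')) := by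
    have h2 : orderOf (x ^ m') ∣ 2 ^ k := orderOf_dvd_of_pow_eq_one h1
    rw [Nat.dvd_prime_pow Nat.prime_two] at h2
    obtain ⟨l, -, hl⟩ := h2
    apply IsPGroup.of_card (n := l)
    rw [Nat.card_zpowers, hl]
  have h3 := S.two _ hP _ (mem_zpowers _)
  have h4 : orderOf (x ^ 2) ∣ m' := by
    apply orderOf_dvd_of_pow_eq_one
    rw [← pow_mul, mul_comm, pow_mul, pow_two, h3]
  exact hm'.of_dvd_nat h4

/-- `3` does not divide the orders of the centralisers -/
theorem not_three_dvd (D : ReeAbs.Data m U h n) (hK : Fintype.card K = 3 ^ (2 * m + 1)) {x : G}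
    (hx : Reg x) : ¬ 3 ∣ Nat.card (centralizer {x} : Subgroup G) := by
  intro h3
  have : Fact (Nat.Prime 3) := ⟨Nat.prime_three⟩
  obtain ⟨⟨z, hz⟩, hzo⟩ := exists_prime_orderOf_dvd_card' 3 h3
  rw [Subgroup.orderOf_mk] at hzo
  rw [mem_centralizer_singleton_iff] at hz
  obtain ⟨g, hg⟩ := conj_uSub D hK (k := 1) (by rw [hzo, pow_one])
  have hz1 : z ≠ 1 := by
    rintro rfl
    rw [orderOf_one] at hzo
    omega
  have h4 := ReeSplit.pow_eighteen_of_commute D hK hg (conj_ne hz1 g) (conj_comm hz.symm g)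
  have h5 := orderOf_dvd_of_pow_eq_one h4
  rw [ReeClass.orderOf_conj] at h5
  have h6 : orderOf x ∣ 2 * 3 ^ 2 := by norm_num; exact h5
  have h7 : Nat.Coprime (orderOf x) (3 ^ 2) :=
    Nat.Coprime.pow_right 2 ((Nat.Prime.coprime_iff_not_dvd Nat.prime_three).2 hx.2).symm
  have h8 := Nat.le_of_dvd (by norm_num) (h7.dvd_of_dvd_mul_right h6)
  have := hx.1
  omega

/-- the four families -/
theorem reg_cases (D : ReeAbs.Data m U h n) (hK : Fintype.card K = 3 ^ (2 * m + 1))
    (S : Setup G L (3 ^ (2 * m + 1)) a f i j u t₀ T) {A B : Subgroup G}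
    (hcov : ∀ x : G, x ≠ 1 → orderOf x ∣ (3 ^ (2 * m + 1)) ^ 2 - 3 ^ (2 * m + 1) + 1 →
        ∃ g : G, g * x * g⁻¹ ∈ A ∨ g * x * g⁻¹ ∈ B) {x : G} (hx : Reg x) :
    (∃ g, g⁻¹ * x * g ∈ {y : G | y ∈ ReeSplit.hSub D ∧ y ^ 2 ≠ 1}) ∨
    (∃ g, g⁻¹ * x * g ∈ {y : G | y ∈ S.EA ∧ y ^ 2 ≠ 1}) ∨
    (∃ g, g⁻¹ * x * g ∈ {y : G | y ∈ A ∧ y ≠ 1}) ∨
    (∃ g, g⁻¹ * x * g ∈ {y : G | y ∈ B ∧ y ≠ 1}) := by
  have Dl := ReeSetup.local_of_data D hK
  have ar := ReeClass.arith m
  have hy1 := hx.sq_ne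
  have hyo := odd_sq S x
  have hxy : x * x ^ 2 = x ^ 2 * x := ((Commute.refl x).pow_right _).eq
  have hsq : ∀ g : G, (g⁻¹ * x * g) ^ 2 ≠ 1 := by
    intro g
    have h2 := conj_pow (i := 2) (a := g⁻¹) (b := x)
    rw [inv_inv] at h2
    rw [h2]
    exact conj_ne hy1 g
  rcases classify Dl ar S hy1 hyo with ⟨g, hg⟩ | ⟨g, hg⟩ | ⟨g, hg⟩ | hg
  · exfalso
    have h1 := orderOf_dvd_of_pow_eq_one (Dl.U_exp _ hg)
    rw [ReeClass.orderOf_conj] at h1
    have h2 : Nat.Coprime (3 ^ 2) (orderOf (x ^ 2)) := by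
      apply Nat.Coprime.pow_left 2
      rw [Nat.Prime.coprime_iff_not_dvd Nat.prime_three]
      intro h3
      exact hx.2 (h3.trans (orderOf_pow_dvd 2))
    have h3 : orderOf (x ^ 2) ∣ 3 ^ 2 := by norm_num; exact h1
    have h4 : orderOf (x ^ 2) = 1 := Nat.Coprime.eq_one_of_dvd h2.symm h3
    exact hy1 (orderOf_eq_one_iff.1 h4)
  · exact Or.inl ⟨g, Dl.cent_A _ hg (conj_ne hy1 g) _ (conj_comm hxy g), hsq g⟩
  · exact Or.inr (Or.inl ⟨g, S.cent_x hg (conj_ne hy1 g) (conj_comm hxy g), hsq g⟩)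
  · have h2 := card_centralizer_dvd Dl ar S hy1 hg
    have h3 : x ∈ (centralizer {x ^ 2} : Subgroup G) := mem_centralizer_singleton_iff.2 hxy
    have h4 := orderOf_dvd_natCard (⟨x, h3⟩ : (centralizer {x ^ 2} : Subgroup G))
    rw [Subgroup.orderOf_mk] at h4
    have hx1 : x ≠ 1 := by
      rintro rfl
      exact hy1 (one_pow 2)
    obtain ⟨g, hg⟩ := hcov x hx1 (h4.trans h2)
    rcases hg with hg | hg
    · exact Or.inr (Or.inr (Or.inl ⟨g⁻¹, by rwa [inv_inv], conj_ne hx1 g⁻¹⟩))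
    · exact Or.inr (Or.inr (Or.inr ⟨g⁻¹, by rwa [inv_inv], conj_ne hx1 g⁻¹⟩))

/-- the number of elements of the split torus of order greater than two -/
theorem card_s1 (D : ReeAbs.Data m U h n) (hK : Fintype.card K = 3 ^ (2 * m + 1)) :
    Nat.card {y : G | y ∈ ReeSplit.hSub D ∧ y ^ 2 ≠ 1} = 3 ^ (2 * m + 1) - 3 := by
  classical
  have hJ := D.inv_ne_one hK
  have hJ2 := D.inv_sq
  have h1 : (ReeSplit.hSub D : Set G) = {y : G | y ∈ ReeSplit.hSub D ∧ y ^ 2 ≠ 1} ∪ {1, h (-1)} := by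
    ext y
    simp only [SetLike.mem_coe, Set.mem_union, Set.mem_ofPred_eq, Set.mem_insert_iff,
      Set.mem_singleton_iff]
    constructor
    · intro hy
      by_cases h2 : y ^ 2 = 1
      · right
        obtain ⟨c, rfl⟩ := (ReeSplit.mem_hSub D).1 hy
        rw [← ReeSplit.h_pow D, ← D.h_one, ReeSplit.h_eq_iff D] at h2
        have h2' : (c : K) ^ 2 = 1 := by rw [← Units.val_pow_eq_pow_val, h2, Units.val_one]
        have hc : c = 1 ∨ c = -1 := by
          rw [pow_two, mul_self_eq_one_iff] at h2'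
          rcases h2' with h3 | h3
          · left; exact Units.ext h3
          · right; exact Units.ext h3
        rcases hc with h3 | h3
        · left; rw [h3, D.h_one]
        · right; rw [h3]
      · exact Or.inl ⟨hy, h2⟩
    · rintro (hy | rfl | rfl)
      · exact hy.1
      · exact one_mem _
      · exact (ReeSplit.mem_hSub D).2 ⟨_, rfl⟩
  have h2 : Disjoint {y : G | y ∈ ReeSplit.hSub D ∧ y ^ 2 ≠ 1} ({1, h (-1)} : Set G) := by
    rw [Set.disjoint_left]
    rintro y ⟨-, hy⟩ (rfl | rfl)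
    · exact hy (one_pow 2)
    · exact hy (by rw [pow_two, hJ2])
  have h3 : Nat.card (ReeSplit.hSub D) = (ReeSplit.hSub D : Set G).ncard := rfl
  have h4 : Nat.card {y : G | y ∈ ReeSplit.hSub D ∧ y ^ 2 ≠ 1} =
    {y : G | y ∈ ReeSplit.hSub D ∧ y ^ 2 ≠ 1}.ncard := rfl
  have h5 := congrArg Set.ncard h1
  rw [Set.ncard_union_eq h2, Set.ncard_pair hJ.symm, ← h3, ← h4, ReeSplit.card_hSub D, hK] at h5
  omega

/-- the number of elements of `E A` of order greater than two -/
theorem card_s2 (S : Setup G L q a f i j u t₀ T) :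
    Nat.card {y : G | y ∈ S.EA ∧ y ^ 2 ≠ 1} = q - 3 := by
  classical
  have h1 : (S.EA : Set G) = {y : G | y ∈ S.EA ∧ y ^ 2 ≠ 1} ∪ (S.V : Set G) := by
    ext y
    simp only [SetLike.mem_coe, Set.mem_union, Set.mem_ofPred_eq]
    constructor
    · intro hy
      by_cases h2 : y ^ 2 = 1
      · right
        rw [pow_two] at h2
        exact S.inv_EA hy h2
      · exact Or.inl ⟨hy, h2⟩
    · rintro (hy | hy)
      · exact hy.1
      · exact S.V_le_EA hy
  have h2 : Disjoint {y : G | y ∈ S.EA ∧ y ^ 2 ≠ 1} (S.V : Set G) := by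
    rw [Set.disjoint_left]
    rintro y ⟨-, hy⟩ hV
    exact hy (by rw [pow_two]; exact S.V_sq hV)
  have h3 : Nat.card S.EA = (S.EA : Set G).ncard := rfl
  have h4 : Nat.card {y : G | y ∈ S.EA ∧ y ^ 2 ≠ 1} = {y : G | y ∈ S.EA ∧ y ^ 2 ≠ 1}.ncard := rfl
  have h6 : Nat.card S.V = (S.V : Set G).ncard := rfl
  have h5 := congrArg Set.ncard h1
  rw [Set.ncard_union_eq h2, ← h3, ← h4, ← h6, card_EA S, S.card_V] at h5
  omega

theorem card_ne_one (A : Subgroup G) : Nat.card {y : G | y ∈ A ∧ y ≠ 1} = Nat.card A - 1 := by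
  classical
  have h1 : (A : Set G) = {y : G | y ∈ A ∧ y ≠ 1} ∪ {1} := by
    ext y
    simp only [SetLike.mem_coe, Set.mem_union, Set.mem_ofPred_eq, Set.mem_singleton_iff]
    constructor
    · intro hy
      by_cases h2 : y = 1
      · exact Or.inr h2
      · exact Or.inl ⟨hy, h2⟩
    · rintro (hy | rfl)
      · exact hy.1
      · exact one_mem _
  have h2 : Disjoint {y : G | y ∈ A ∧ y ≠ 1} ({1} : Set G) := by
    rw [Set.disjoint_left]
    rintro y ⟨-, hy⟩ hV
    exact hy hV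
  have h3 : Nat.card A = (A : Set G).ncard := rfl
  have h4 : Nat.card {y : G | y ∈ A ∧ y ≠ 1} = {y : G | y ∈ A ∧ y ≠ 1}.ncard := rfl
  have h5 := congrArg Set.ncard h1
  rw [Set.ncard_union_eq h2, ← h3, ← h4, Set.ncard_singleton] at h5
  omega

/-- centralisers in the split torus -/
theorem cent_le_1 (D : ReeAbs.Data m U h n) (hK : Fintype.card K = 3 ^ (2 * m + 1)) :
    ∀ x ∈ {y : G | y ∈ ReeSplit.hSub D ∧ y ^ 2 ≠ 1},
      Nat.card (centralizer {x} : Subgroup G) ≤ 3 ^ (2 * m + 1) - 1 := by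
  rintro x ⟨hx, hx2⟩
  obtain ⟨c, rfl⟩ := (ReeSplit.mem_hSub D).1 hx
  have hc : c ^ 2 ≠ 1 := by
    rintro h1
    rw [← ReeSplit.h_pow D, h1, D.h_one] at hx2
    exact hx2 rfl
  rw [ReeSplit.centralizer_h D hK hc, ReeSplit.card_hSub D, hK]

/-- centralisers in `E A` -/
theorem cent_le_2 (S : Setup G L q a f i j u t₀ T) :
    ∀ x ∈ {y : G | y ∈ S.EA ∧ y ^ 2 ≠ 1}, Nat.card (centralizer {x} : Subgroup G) ≤ q + 1 := by
  rintro x ⟨hx, hx2⟩
  rw [← card_EA S]
  apply Nat.card_le_card_of_injective (fun y : (centralizer {x} : Subgroup G) => (⟨y, ?_⟩ : S.EA))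
  · rintro ⟨y, hy⟩ ⟨y', hy'⟩ h
    exact Subtype.ext (congrArg Subtype.val h : y = y')
  · obtain ⟨y, hy⟩ := y
    rw [mem_centralizer_singleton_iff] at hy
    have h1 : x ^ 2 ∈ S.A := S.odd_EA (S.EA.pow_mem hx 2) (odd_sq S x)
    exact S.cent_x h1 hx2 ((show Commute y x from hy).pow_right 2).eq

theorem arith_final {Q r g T1 T2 T3 T4 : ℕ} (hQ : 27 ≤ Q) (hr : r ≤ Q)
    (e1 : T1 * (2 * (Q - 1)) ≤ g * (Q - 3) * (Q - 1))
    (e2 : T2 * (6 * (Q + 1)) ≤ g * (Q - 3) * (Q + 1))
    (e3 : T3 * (6 * (Q - r + 1)) ≤ g * (Q - r + 1 - 1) * (Q - r + 1))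
    (e4 : T4 * (6 * (Q + r + 1)) ≤ g * (Q + r + 1 - 1) * (Q + r + 1)) :
    T1 + T2 + T3 + T4 ≤ (Q - 2) * g := by
  have f1 : 2 * T1 ≤ g * (Q - 3) := by
    apply Nat.le_of_mul_le_mul_right (c := Q - 1) _ (by omega)
    calc 2 * T1 * (Q - 1) = T1 * (2 * (Q - 1)) := by ring
      _ ≤ _ := e1
  have f2 : 6 * T2 ≤ g * (Q - 3) := by
    apply Nat.le_of_mul_le_mul_right (c := Q + 1) _ (by omega)
    calc 6 * T2 * (Q + 1) = T2 * (6 * (Q + 1)) := by ring
      _ ≤ _ := e2
  have f3 : 6 * T3 ≤ g * (Q - r) := by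
    apply Nat.le_of_mul_le_mul_right (c := Q - r + 1) _ (by omega)
    calc 6 * T3 * (Q - r + 1) = T3 * (6 * (Q - r + 1)) := by ring
      _ ≤ _ := e3
  have f4 : 6 * T4 ≤ g * (Q + r) := by
    apply Nat.le_of_mul_le_mul_right (c := Q + r + 1) _ (by omega)
    calc 6 * T4 * (Q + r + 1) = T4 * (6 * (Q + r + 1)) := by ring
      _ ≤ _ := e4
  have f5 : 6 * (T1 + T2 + T3 + T4) ≤ g * (3 * (Q - 3) + (Q - 3) + (Q - r) + (Q + r)) := by
    have : g * (3 * (Q - 3) + (Q - 3) + (Q - r) + (Q + r)) =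
      3 * (g * (Q - 3)) + g * (Q - 3) + g * (Q - r) + g * (Q + r) := by ring
    rw [this]
    omega
  have f6 : 3 * (Q - 3) + (Q - 3) + (Q - r) + (Q + r) = 6 * (Q - 2) := by omega
  rw [f6] at f5
  have f7 : g * (6 * (Q - 2)) = 6 * ((Q - 2) * g) := by ring
  omega

/-- the sum of the orders of the centralisers of the elements considered -/
theorem sum_le [Fintype G] [DecidableEq G] (D : ReeAbs.Data m U h n)
    (hK : Fintype.card K = 3 ^ (2 * m + 1)) (hG : commutator G = ⊤)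
    (hm : 1 ≤ m)
    (hcyc : ∀ x : G, x ≠ 1 → orderOf x ∣ (3 ^ (2 * m + 1)) ^ 2 - 3 ^ (2 * m + 1) + 1 →
      IsCyclic (centralizer {x}) ∧
        Nat.card (normalizer (centralizer {x} : Set G)) ∣ 6 * Nat.card (centralizer {x}))
    [DecidablePred (Reg : G → Prop)] :
    (∑ x ∈ Finset.univ.filter (Reg : G → Prop), Nat.card (centralizer {x} : Subgroup G)) ≤
        (3 ^ (2 * m + 1) - 2) * Nat.card G ∧
    ∀ x : G, Reg x → Nat.card (centralizer {x} : Subgroup G) ≤ 3 ^ (2 * m + 1) + 3 ^ (m + 1) + 1 := by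
  classical
  have : CharP K 3 := ReeAbs.charP_three hK
  have Dl := ReeSetup.local_of_data D hK
  have ar := ReeClass.arith m
  obtain ⟨f, t₀, S⟩ := ReeSetup.exists_setup D hK hG Dl
  obtain ⟨A1, A2, z1, z2, k1, k2, n1, n2, x1, x2, hcov⟩ := ReeSetup.exists_tori D hm hK hG hcyc
  have h8 := ar.q8
  have hq27 : 27 ≤ 3 ^ (2 * m + 1) := by
    calc 27 = 3 ^ 3 := by norm_num
      _ ≤ 3 ^ (2 * m + 1) := Nat.pow_le_pow_right (by norm_num) (by omega)
  have hrq : 3 ^ (m + 1) ≤ 3 ^ (2 * m + 1) := Nat.pow_le_pow_right (by norm_num) (by omega)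
  have hcases := fun (x : G) (hx : Reg x) => reg_cases D hK S hcov hx
  -- the sets
  set s1 : Set G := {y : G | y ∈ ReeSplit.hSub D ∧ y ^ 2 ≠ 1} with hs1
  set s2 : Set G := {y : G | y ∈ S.EA ∧ y ^ 2 ≠ 1} with hs2
  set s3 : Set G := {y : G | y ∈ A1 ∧ y ≠ 1} with hs3
  set s4 : Set G := {y : G | y ∈ A2 ∧ y ≠ 1} with hs4
  have c1 := cent_le_1 D hK
  have c2 := cent_le_2 S
  have c3 : ∀ x ∈ s3, Nat.card (centralizer {x} : Subgroup G) ≤ 3 ^ (2 * m + 1) - 3 ^ (m + 1) + 1 := by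
    rintro x ⟨hx, hx1⟩
    rw [x1 x hx hx1, k1]
  have c4 : ∀ x ∈ s4, Nat.card (centralizer {x} : Subgroup G) ≤ 3 ^ (2 * m + 1) + 3 ^ (m + 1) + 1 := by
    rintro x ⟨hx, hx1⟩
    rw [x2 x hx hx1, k2]
  have hsqc : ∀ (g x : G), (g⁻¹ * x * g) ^ 2 = g⁻¹ * x ^ 2 * g := by
    intro g x
    have h2 := conj_pow (i := 2) (a := g⁻¹) (b := x)
    rwa [inv_inv] at h2
  have e1 := sum_conj_le s1 (ReeSplit.nSub D) _ (by
      rintro g hg x ⟨hx, hx2⟩
      refine ⟨ReeSplit.inv_conj_mem_of_mem_nSub D le_rfl hg hx, ?_⟩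
      rw [hsqc]
      exact conj_ne hx2 g) (by
      rintro x ⟨hx, hx2⟩ g ⟨hg, -⟩
      obtain ⟨c, rfl⟩ := (ReeSplit.mem_hSub D).1 hx
      obtain ⟨b, hb⟩ := (ReeSplit.mem_hSub D).1 hg
      refine ReeSplit.mem_nSub_of_conj D hK (a := c) (b := b) ?_ ?_
      · intro h2
        apply hx2
        rw [← ReeSplit.h_pow D, h2, D.h_one]
      · rw [← hb]; group) c1
  have e2 := sum_conj_le s2 S.N _ (by
      rintro g hg x ⟨hx, hx2⟩
      refine ⟨S.N_norm_EA hg hx, ?_⟩
      rw [hsqc]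
      exact conj_ne hx2 g) (by
      rintro x ⟨hx, hx2⟩ g ⟨hg, hg2⟩
      have h1 : x ^ 2 ∈ S.A := S.odd_EA (S.EA.pow_mem hx 2) (odd_sq S x)
      have h3 : g⁻¹ * x ^ 2 * g ∈ S.A := by
        rw [← hsqc]
        exact S.odd_EA (S.EA.pow_mem hg 2) (odd_sq S _)
      exact S.TI h1 hx2 h3) c2
  have e3 := sum_conj_le s3 (normalizer (A1 : Set G)) _ (by
      rintro g hg x ⟨hx, hx2⟩
      refine ⟨?_, conj_ne hx2 g⟩
      have := (mem_normalizer_iff.1 ((normalizer (A1 : Set G)).inv_mem hg) x).1 hx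
      rwa [inv_inv] at this) (by
      rintro x ⟨hx, hx2⟩ g ⟨hg, hg2⟩
      exact mem_normalizer_of_conj x1 hx hx2 hg) c3
  have e4 := sum_conj_le s4 (normalizer (A2 : Set G)) _ (by
      rintro g hg x ⟨hx, hx2⟩
      refine ⟨?_, conj_ne hx2 g⟩
      have := (mem_normalizer_iff.1 ((normalizer (A2 : Set G)).inv_mem hg) x).1 hx
      rwa [inv_inv] at this) (by
      rintro x ⟨hx, hx2⟩ g ⟨hg, hg2⟩
      exact mem_normalizer_of_conj x2 hx hx2 hg) c4
  have cc : ∀ (s : Set G) (b : ℕ), (∀ x ∈ s, Nat.card (centralizer {x} : Subgroup G) ≤ b) →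
      ∀ (x g : G), g⁻¹ * x * g ∈ s → Nat.card (centralizer {x} : Subgroup G) ≤ b := by
    intro s b hb x g hg
    rw [← card_cent_conj g]
    exact hb _ hg
  refine ⟨?_, ?_⟩
  · have hsum : (∑ x ∈ Finset.univ.filter (Reg : G → Prop), Nat.card (centralizer {x} : Subgroup G)) ≤
        (∑ x ∈ Finset.univ.filter (fun y : G => ∃ g : G, g⁻¹ * y * g ∈ s1),
          Nat.card (centralizer {x} : Subgroup G)) +
        (∑ x ∈ Finset.univ.filter (fun y : G => ∃ g : G, g⁻¹ * y * g ∈ s2),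
          Nat.card (centralizer {x} : Subgroup G)) +
        (∑ x ∈ Finset.univ.filter (fun y : G => ∃ g : G, g⁻¹ * y * g ∈ s3),
          Nat.card (centralizer {x} : Subgroup G)) +
        (∑ x ∈ Finset.univ.filter (fun y : G => ∃ g : G, g⁻¹ * y * g ∈ s4),
          Nat.card (centralizer {x} : Subgroup G)) := by
      have h1 : Finset.univ.filter (Reg : G → Prop) ⊆
          ((Finset.univ.filter (fun y : G => ∃ g : G, g⁻¹ * y * g ∈ s1) ∪
          Finset.univ.filter (fun y : G => ∃ g : G, g⁻¹ * y * g ∈ s2)) ∪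
          Finset.univ.filter (fun y : G => ∃ g : G, g⁻¹ * y * g ∈ s3)) ∪
          Finset.univ.filter (fun y : G => ∃ g : G, g⁻¹ * y * g ∈ s4) := by
        intro x hx
        simp only [Finset.mem_filter, Finset.mem_univ, true_and, Finset.mem_union] at hx ⊢
        rcases hcases x hx with h | h | h | h
        · exact Or.inl (Or.inl (Or.inl h))
        · exact Or.inl (Or.inl (Or.inr h))
        · exact Or.inl (Or.inr h)
        · exact Or.inr h
      have hu : ∀ (s t : Finset G), ∑ x ∈ s ∪ t, Nat.card (centralizer {x} : Subgroup G) ≤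
          (∑ x ∈ s, Nat.card (centralizer {x} : Subgroup G)) +
          (∑ x ∈ t, Nat.card (centralizer {x} : Subgroup G)) := by
        intro s t
        rw [← Finset.sum_union_inter]
        exact Nat.le_add_right _ _
      refine (Finset.sum_le_sum_of_subset h1).trans ?_
      refine (hu _ _).trans (Nat.add_le_add_right ?_ _)
      refine (hu _ _).trans (Nat.add_le_add_right ?_ _)
      exact hu _ _
    rw [card_s1 D hK, ReeSplit.card_nSub D, hK] at e1
    rw [card_s2 S, S.card_N] at e2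
    rw [card_ne_one, k1, n1] at e3
    rw [card_ne_one, k2, n2] at e4
    refine hsum.trans ?_
    exact arith_final hq27 hrq e1 e2 e3 e4
  · intro x hx
    have hle : ∀ j : ℕ, 3 ^ (2 * m + 1) - j ≤ 3 ^ (2 * m + 1) + 3 ^ (m + 1) + 1 := fun j =>
      (Nat.sub_le _ _).trans ((Nat.le_add_right _ _).trans (Nat.le_add_right _ _))
    rcases hcases x hx with ⟨g, h⟩ | ⟨g, h⟩ | ⟨g, h⟩ | ⟨g, h⟩
    · exact (cc _ _ c1 x g h).trans (hle 1)
    · refine (cc _ _ c2 x g h).trans ?_
      exact Nat.add_le_add_right (Nat.le_add_right _ _) 1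
    · refine (cc _ _ c3 x g h).trans ?_
      exact Nat.add_le_add_right ((Nat.sub_le _ _).trans (Nat.le_add_right _ _)) 1
    · exact cc _ _ c4 x g h

/-- elements whose trace is not `1` or `-1` -/
theorem reg_of_trace (D : ReeAbs.Data m U h n) (hK : Fintype.card K = 3 ^ (2 * m + 1))
    (hG : commutator G = ⊤) (hm : 1 ≤ m) (τ : G → K) (hτ : ∀ g x, τ (g * x * g⁻¹) = τ x)
    (hτq : ∀ x, τ (x ^ (3 ^ (2 * m + 1))) = τ x) (hτ1 : τ 1 = 1) (hτJ : τ (h (-1)) = -1)
    {x : G} (h1 : τ x ≠ 1) (h2 : τ x ≠ -1) : Reg x := by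
  have : CharP K 3 := ReeAbs.charP_three hK
  have Dl := ReeSetup.local_of_data D hK
  obtain ⟨f, t₀, S⟩ := ReeSetup.exists_setup D hK hG Dl
  -- the three-part
  have h9 : (9 : ℕ) ∣ 3 ^ (2 * m + 1) := by
    have : (9 : ℕ) = 3 ^ 2 := by norm_num
    rw [this]
    exact pow_dvd_pow 3 (by omega)
  set z := x ^ (3 ^ (2 * m + 1)) with hz
  have hz3 : ¬ 3 ∣ orderOf z := by
    obtain ⟨k, m', hm', hk⟩ := Nat.exists_eq_pow_mul_and_not_dvd (orderOf_pos x).ne' 3 (by norm_num)
    -- the element of three-power order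
    have h3 : (x ^ m') ^ (3 ^ k) = 1 := by
      rw [← pow_mul, mul_comm, ← hk, pow_orderOf_eq_one]
    have h4 : orderOf (x ^ m') ∣ 3 ^ k := orderOf_dvd_of_pow_eq_one h3
    rw [Nat.dvd_prime_pow Nat.prime_three] at h4
    obtain ⟨l, -, hl⟩ := h4
    obtain ⟨g, hg⟩ := conj_uSub D hK hl
    have h5 := Dl.U_exp _ hg
    have h6 := orderOf_dvd_of_pow_eq_one h5
    rw [ReeClass.orderOf_conj] at h6
    have h7 : z ^ m' = 1 := by
      rw [hz, ← pow_mul, mul_comm, pow_mul]
      exact orderOf_dvd_iff_pow_eq_one.1 (h6.trans h9)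
    intro h8
    exact hm' (h8.trans (orderOf_dvd_of_pow_eq_one h7))
  have hzt : τ z = τ x := hτq x
  have hz1 : z ≠ 1 := by
    intro h
    rw [h, hτ1] at hzt
    exact h1 hzt.symm
  have hz2 : orderOf z ≠ 2 := by
    intro h
    obtain ⟨g, hg⟩ := S.conjG z hz1 (by rw [← pow_two, ← h, pow_orderOf_eq_one])
    rw [← hg, hτ, hτJ] at hzt
    exact h2 hzt.symm
  have hz0 : 0 < orderOf z := orderOf_pos z
  have hzo : orderOf z ≠ 1 := fun h => hz1 (orderOf_eq_one_iff.1 h)
  have hzr : Reg z := ⟨by omega, hz3⟩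
  have hxd : orderOf z ∣ orderOf x := orderOf_pow_dvd _
  refine ⟨lt_of_lt_of_le hzr.1 (Nat.le_of_dvd (orderOf_pos x) hxd), ?_⟩
  intro h3
  apply not_three_dvd D hK hzr
  have h4 : x ∈ (centralizer {z} : Subgroup G) := by
    rw [mem_centralizer_singleton_iff]
    exact ((Commute.refl x).pow_right _).eq
  have h5 := orderOf_dvd_natCard (⟨x, h4⟩ : (centralizer {z} : Subgroup G))
  rw [Subgroup.orderOf_mk] at h5
  exact h3.trans h5

/-- the classes are told apart by the trace -/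
theorem trace_separates (D : ReeAbs.Data m U h n) (hK : Fintype.card K = 3 ^ (2 * m + 1))
    (hG : commutator G = ⊤) (hm : 1 ≤ m)
    (hcyc : ∀ x : G, x ≠ 1 → orderOf x ∣ (3 ^ (2 * m + 1)) ^ 2 - 3 ^ (2 * m + 1) + 1 →
      IsCyclic (centralizer {x}) ∧
        Nat.card (normalizer (centralizer {x} : Set G)) ∣ 6 * Nat.card (centralizer {x}))
    (τ : G → K) (hτ : ∀ g x, τ (g * x * g⁻¹) = τ x)
    (hτq : ∀ x, τ (x ^ (3 ^ (2 * m + 1))) = τ x) (hτ1 : τ 1 = 1) (hτJ : τ (h (-1)) = -1)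
    (hsurj : ∀ T : K, T ≠ -1 → ∃ x, τ x = T) :
    (∀ x, Reg x → τ x ≠ 1 ∧ τ x ≠ -1) ∧ (∀ x y, Reg x → Reg y → τ x = τ y → IsConj x y) := by
  classical
  have := Fintype.ofFinite G
  have : CharP K 3 := ReeAbs.charP_three hK
  have hcl : ∀ x y, IsConj x y → τ x = τ y := by
    intro x y hxy
    obtain ⟨g, rfl⟩ := isConj_iff.1 hxy
    exact (hτ g x).symm
  have hq27 : 27 ≤ 3 ^ (2 * m + 1) := by
    calc 27 = 3 ^ 3 := by norm_num
      _ ≤ 3 ^ (2 * m + 1) := Nat.pow_le_pow_right (by norm_num) (by omega)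
  have hex : ∀ T : {T : K // T ≠ 1 ∧ T ≠ -1}, ∃ x, Reg x ∧ τ x = T := by
    rintro ⟨T, h1, h2⟩
    obtain ⟨x, rfl⟩ := hsurj T h2
    exact ⟨x, reg_of_trace D hK hG hm τ hτ hτq hτ1 hτJ h1 h2, rfl⟩
  choose Y hY1 hY2 using hex
  have hcard : Fintype.card {T : K // T ≠ 1 ∧ T ≠ -1} = 3 ^ (2 * m + 1) - 2 := by
    have h1 : (1 : K) ≠ -1 := by
      intro h1
      have h3 : (3 : K) = 0 := CharP.cast_eq_zero K 3
      have h2 : (1 : K) = 0 := by linear_combination h3 - h1
      exact one_ne_zero h2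
    rw [Fintype.card_subtype]
    have h2 : (Finset.univ.filter fun T : K => T ≠ 1 ∧ T ≠ -1) = Finset.univ \ {1, -1} := by
      ext T
      simp [not_or]
    rw [h2, Finset.card_sdiff_of_subset (Finset.subset_univ _), Finset.card_pair h1, Finset.card_univ, hK]
  have key : ∀ x, Reg x → ∃ T, IsConj (Y T) x := by
    intro x hx
    by_contra hno
    push Not at hno
    have h1 := card_mul_le (ι := Option {T : K // T ≠ 1 ∧ T ≠ -1}) (Finset.univ.filter (Reg : G → Prop))
      (by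
        intro x hx y hxy
        rw [Finset.mem_filter] at hx ⊢
        exact ⟨Finset.mem_univ _, reg_of_isConj hx.2 hxy⟩)
      (fun o => o.elim x Y) (by
        intro o
        rw [Finset.mem_filter]
        refine ⟨Finset.mem_univ _, ?_⟩
        cases o with
        | none => exact hx
        | some T => exact hY1 T) (by
        intro o o' hoo
        cases o with
        | none =>
          cases o' with
          | none => rfl
          | some T => exact absurd (IsConj.symm hoo) (hno T)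
        | some T =>
          cases o' with
          | none => exact absurd hoo (hno T)
          | some T' =>
            have := hcl _ _ hoo
            simp only [Option.elim_some] at this
            rw [hY2, hY2] at this
            rw [Subtype.ext this])
    rw [Fintype.card_option, hcard] at h1
    have h2 := (sum_le D hK hG hm hcyc).1
    have h3 : 0 < Nat.card G := Nat.card_pos
    have h4 := h1.trans h2
    have h5 := Nat.le_of_mul_le_mul_right h4 h3
    omega
  constructor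
  · intro x hx
    obtain ⟨T, hT⟩ := key x hx
    rw [← hcl _ _ hT, hY2]
    exact T.2
  · intro x y hx hy hxy
    obtain ⟨T, hT⟩ := key x hx
    obtain ⟨T', hT'⟩ := key y hy
    have h1 : T = T' := by
      apply Subtype.ext
      rw [← hY2, ← hY2, hcl _ _ hT, hcl _ _ hT', hxy]
    subst h1
    exact hT.symm.trans hT'

end Cfsg.Agent.H147.ReeCls
end

-- part: H147/ReeInvol
section
/-!
# Small Ree groups: involutions as products of two conjugates
-/

set_option autoImplicit false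
set_option linter.unusedSectionVars false

namespace Cfsg.Agent.H147.ReeInvol

open Subgroup
open Cfsg.Agent.LieRecognition Cfsg.Agent.LieRecognition.ReeAbs
open Cfsg.Agent.H147.ReeCls Cfsg.Agent.H147.TwoTransMod

variable {K : Type*} [Field K] [Fintype K] {G : Type*} [Group G] {m : ℕ}
  {U : K → K → K → G} {h : Kˣ → G} {n : G}

/-- the involutions of the Borel subgroup -/
theorem inv_iff (D : Data m U h n) (hK : Fintype.card K = 3 ^ (2 * m + 1)) (t u v : K) (a : Kˣ) :
    (U t u v * h a ≠ 1 ∧ (U t u v * h a) * (U t u v * h a) = 1) ↔ a = -1 ∧ u = t * t ^ (3 ^ (m + 1)) := by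
  have h3 : (3 : K) = 0 := by
    have := charP_three hK
    exact CharP.cast_eq_zero K 3
  have ho : Odd (3 ^ (m + 1)) := odd_three_pow _
  have hsq : (U t u v * h a) * (U t u v * h a) =
      U (t + (a : K) ^ (3 ^ (m + 1)) * t)
        (u + (a : K) ^ (3 ^ (m + 1) + 3) * u - t * ((a : K) ^ (3 ^ (m + 1)) * t) ^ (3 ^ (m + 1)))
        (v + (a : K) ^ (2 * 3 ^ (m + 1) + 3) * v - u * ((a : K) ^ (3 ^ (m + 1)) * t) -
          t ^ 2 * ((a : K) ^ (3 ^ (m + 1)) * t) ^ (3 ^ (m + 1)) +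
          t * ((a : K) ^ (3 ^ (m + 1)) * t) * ((a : K) ^ (3 ^ (m + 1)) * t) ^ (3 ^ (m + 1))) * h (a * a) := by
    rw [D.h_mul, ← mul_assoc, mul_assoc (U t u v) (h a) (U t u v), D.h_U, ← mul_assoc (U t u v), D.U_mul,
      mul_assoc]
  have hone : (1 : G) = U 0 0 0 * h 1 := by rw [D.U_zero, D.h_one, one_mul]
  constructor
  · rintro ⟨h1, h2⟩
    rw [hsq] at h2
    rw [hone] at h2
    obtain ⟨e1, e2, e3, e4⟩ := D.inj₁ _ _ _ _ _ _ _ _ h2
    have ha : a = 1 ∨ a = -1 := by
      have h5 : (a : K) * a = 1 := by rw [← Units.val_mul, e4, Units.val_one]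
      rcases mul_self_eq_one_iff.1 h5 with h6 | h6
      · left; exact Units.ext h6
      · right; exact Units.ext h6
    rcases ha with rfl | rfl
    · exfalso
      apply h1
      simp only [Units.val_one, one_pow, one_mul] at e1 e2 e3
      have f1 : t = 0 := by linear_combination t * h3 - e1
      subst f1
      have z0 : (0 : K) ^ (3 ^ (m + 1)) = 0 := zero_pow (by positivity)
      rw [z0] at e2 e3
      have f2 : u = 0 := by linear_combination u * h3 - e2
      subst f2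
      have f3 : v = 0 := by linear_combination v * h3 - e3
      subst f3
      rw [D.U_zero, D.h_one, one_mul]
    · refine ⟨rfl, ?_⟩
      have hev : Even (3 ^ (m + 1) + 3) := ho.add_odd (by decide)
      simp only [Units.val_neg, Units.val_one, hev.neg_one_pow, ho.neg_one_pow, neg_mul, one_mul,
        ho.neg_pow] at e2
      linear_combination u * h3 - e2
  · rintro ⟨rfl, rfl⟩
    constructor
    · intro h1
      rw [hone] at h1
      obtain ⟨-, -, -, e4⟩ := D.inj₁ _ _ _ _ _ _ _ _ h1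
      have := neg_one_ne_one (K := K) hK
      exact this (by simpa using congrArg Units.val e4)
    · rw [hsq, hone]
      have hev : Even (3 ^ (m + 1) + 3) := ho.add_odd (by decide)
      have hod : Odd (2 * 3 ^ (m + 1) + 3) := (even_two_mul _).add_odd (by decide)
      congr 1
      · congr 1
        · simp only [Units.val_neg, Units.val_one, ho.neg_one_pow]; ring
        · simp only [Units.val_neg, Units.val_one, ho.neg_one_pow, hev.neg_one_pow, neg_mul, one_mul,
            ho.neg_pow]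
          linear_combination (t * t ^ 3 ^ (m + 1)) * h3
        · simp only [Units.val_neg, Units.val_one, ho.neg_one_pow, hod.neg_one_pow, neg_mul, one_mul,
            ho.neg_pow]
          linear_combination (t ^ 2 * t ^ 3 ^ (m + 1)) * h3
      · congr 1
        simp

open Classical in
/-- the indicator of the involutions -/
noncomputable def I (g : G) : ZMod 3 := if g ≠ 1 ∧ g * g = 1 then 1 else 0

theorem I_of {g : G} (hg : g ≠ 1 ∧ g * g = 1) : I g = 1 := if_pos hg

theorem I_not {g : G} (hg : ¬ (g ≠ 1 ∧ g * g = 1)) : I g = 0 := if_neg hg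

theorem I_conj (g x : G) : I (g * x * g⁻¹) = I x := by
  have h1 : (g * x * g⁻¹ ≠ 1 ∧ (g * x * g⁻¹) * (g * x * g⁻¹) = 1) ↔ (x ≠ 1 ∧ x * x = 1) := by
    have e1 : g * x * g⁻¹ = 1 ↔ x = 1 := by
      constructor
      · intro h
        have : x = g⁻¹ * (g * x * g⁻¹) * g := by group
        rw [this, h]; group
      · rintro rfl; group
    have e2 : (g * x * g⁻¹) * (g * x * g⁻¹) = g * (x * x) * g⁻¹ := by group
    have e3 : g * (x * x) * g⁻¹ = 1 ↔ x * x = 1 := by
      constructor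
      · intro h
        have : x * x = g⁻¹ * (g * (x * x) * g⁻¹) * g := by group
        rw [this, h]; group
      · intro h; rw [h]; group
    rw [ne_eq, ne_eq, e1, e2, e3]
  by_cases hx : x ≠ 1 ∧ x * x = 1
  · rw [I_of hx, I_of (h1.2 hx)]
  · rw [I_not hx, I_not (fun h => hx (h1.1 h))]

/-- coordinates of `U` -/
noncomputable def eU (D : Data m U h n) : K × K × K ≃ ReeSylowThree.uSub D := by
  refine Equiv.ofBijective (fun x => ⟨U x.1 x.2.1 x.2.2, x.1, x.2.1, x.2.2, rfl⟩) ⟨?_, ?_⟩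
  · rintro ⟨t, u, v⟩ ⟨t', u', v'⟩ he
    obtain ⟨rfl, rfl, rfl⟩ := ReeSylowThree.U_injective D (congrArg Subtype.val he)
    rfl
  · rintro ⟨_, t, u, v, rfl⟩
    exact ⟨(t, u, v), rfl⟩

theorem eU_apply (D : Data m U h n) (t u v : K) : (eU D (t, u, v) : G) = U t u v := rfl

theorem card_K_zero (hK : Fintype.card K = 3 ^ (2 * m + 1)) : ((Fintype.card K : ℕ) : ZMod 3) = 0 := by
  rw [hK, Nat.cast_pow]
  have : ((3 : ℕ) : ZMod 3) = 0 := by decide
  rw [this, zero_pow (by omega)]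

/-- cosets of `U` in `B` -/
theorem sum_I_B (D : Data m U h n) (hK : Fintype.card K = 3 ^ (2 * m + 1)) [Fintype (ReeSylowThree.uSub D)]
    {g : G} (hg : g ∈ ReeSplit.bSub D) : ∑ w : ReeSylowThree.uSub D, I (g * w) = 0 := by
  obtain ⟨x, y, z, a, rfl⟩ := hg
  rw [← Equiv.sum_comp (eU D), Fintype.sum_prod_type]
  apply Finset.sum_eq_zero
  intro t _
  rw [Fintype.sum_prod_type]
  apply Finset.sum_eq_zero
  intro u _
  have h1 : ∀ v : K, I (U x y z * h a * (eU D (t, u, v) : G)) = I (U x y z * h a * (eU D (t, u, 0) : G)) := by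
    have h2 : ∀ v : K, ∃ w, U x y z * h a * U t u v = U (x + (a : K) ^ (3 ^ (m + 1)) * t)
        (y + (a : K) ^ (3 ^ (m + 1) + 3) * u - x * ((a : K) ^ (3 ^ (m + 1)) * t) ^ (3 ^ (m + 1))) w * h a := by
      intro v
      rw [mul_assoc, D.h_U, ← mul_assoc, D.U_mul]
      exact ⟨_, rfl⟩
    intro v
    rw [eU_apply, eU_apply]
    obtain ⟨w, hw⟩ := h2 v
    obtain ⟨w', hw'⟩ := h2 0
    have k1 := inv_iff D hK (x + (a : K) ^ (3 ^ (m + 1)) * t)
        (y + (a : K) ^ (3 ^ (m + 1) + 3) * u - x * ((a : K) ^ (3 ^ (m + 1)) * t) ^ (3 ^ (m + 1))) w a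
    have k2 := inv_iff D hK (x + (a : K) ^ (3 ^ (m + 1)) * t)
        (y + (a : K) ^ (3 ^ (m + 1) + 3) * u - x * ((a : K) ^ (3 ^ (m + 1)) * t) ^ (3 ^ (m + 1))) w' a
    rw [hw, hw']
    by_cases hc : a = -1 ∧ (y + (a : K) ^ (3 ^ (m + 1) + 3) * u - x * ((a : K) ^ (3 ^ (m + 1)) * t) ^ (3 ^ (m + 1))) =
        (x + (a : K) ^ (3 ^ (m + 1)) * t) * (x + (a : K) ^ (3 ^ (m + 1)) * t) ^ (3 ^ (m + 1))
    · rw [I_of (k1.2 hc), I_of (k2.2 hc)]
    · rw [I_not (fun h => hc (k1.1 h)), I_not (fun h => hc (k2.1 h))]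
  rw [Finset.sum_congr rfl (fun v _ => h1 v), Finset.sum_const, Finset.card_univ, nsmul_eq_mul,
    card_K_zero hK, zero_mul]

/-- cosets of `U` outside `B` -/
theorem sum_I_notB (D : Data m U h n) [Fintype (ReeSylowThree.uSub D)]
    {g : G} (hg : g ∉ ReeSplit.bSub D) : ∑ w : ReeSylowThree.uSub D, I (g * w) = 1 := by
  rcases D.bruhat g with hb | ⟨t, u, v, a, t', u', v', hb⟩
  · exact absurd hb hg
  have hu1 : U t u v ∈ ReeSylowThree.uSub D := ⟨_, _, _, rfl⟩
  have hu2 : U t' u' v' ∈ ReeSylowThree.uSub D := ⟨_, _, _, rfl⟩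
  have huB : ∀ w ∈ ReeSylowThree.uSub D, w ∈ ReeSplit.bSub D := by
    rintro w ⟨x, y, z, rfl⟩
    exact ⟨x, y, z, 1, by rw [D.h_one, mul_one]⟩
  set w0 : ReeSylowThree.uSub D := ⟨(U t' u' v')⁻¹ * (U t u v)⁻¹,
    mul_mem (inv_mem hu2) (inv_mem hu1)⟩ with hw0
  rw [Finset.sum_eq_single w0]
  · apply I_of
    constructor
    · intro h1
      apply hg
      have : g = (w0 : G)⁻¹ := eq_inv_of_mul_eq_one_left h1
      rw [this]
      exact inv_mem (huB _ w0.2)
    · have h1 : g * w0 = U t u v * (h a * n) * (U t u v)⁻¹ := by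
        rw [hb, hw0]; simp only; group
      have h2 : (h a * n) * (h a * n) = 1 := by
        rw [mul_assoc, ← mul_assoc n, D.n_h, mul_assoc, D.n_n, mul_one, ← D.h_mul, mul_inv_cancel, D.h_one]
      rw [h1]
      calc U t u v * (h a * n) * (U t u v)⁻¹ * (U t u v * (h a * n) * (U t u v)⁻¹) =
          U t u v * ((h a * n) * (h a * n)) * (U t u v)⁻¹ := by group
        _ = 1 := by rw [h2]; group
  · intro w _ hw
    apply I_not
    rintro ⟨-, h1⟩
    apply hw
    obtain ⟨x, y, z, hW⟩ : U t' u' v' * w ∈ ReeSylowThree.uSub D := mul_mem hu2 w.2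
    obtain ⟨x', y', z', hW'⟩ : (U x y z)⁻¹ ∈ ReeSylowThree.uSub D := inv_mem ⟨_, _, _, rfl⟩
    obtain ⟨x₂, y₂, z₂, hU'⟩ : (U t u v)⁻¹ ∈ ReeSylowThree.uSub D := inv_mem ⟨_, _, _, rfl⟩
    have h2 : g * w = U t u v * h a * n * U x y z := by
      rw [hb, mul_assoc, hW]
    have h3 : (g * w)⁻¹ = U x' y' z' * h a * n * U x₂ y₂ z₂ := by
      rw [h2, mul_inv_rev, mul_inv_rev, mul_inv_rev, hW', hU', D.n_inv, ← D.h_inv]
      simp only [mul_assoc]
      rw [← mul_assoc n (h a⁻¹), D.n_h, inv_inv, mul_assoc]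
    have h4 : g * w = (g * w)⁻¹ := eq_inv_of_mul_eq_one_left h1
    rw [h3, h2] at h4
    obtain ⟨e1, e2, e3, -⟩ := D.inj₂ _ _ _ _ _ _ _ _ _ _ _ _ _ _ h4
    apply Subtype.ext
    rw [hw0]
    simp only
    have h5 : U t u v = (U x y z)⁻¹ := by rw [hW', e1, e2, e3]
    rw [← hW] at h5
    rw [h5]
    group
  · intro h1
    exact absurd (Finset.mem_univ _) h1

theorem hB (D : Data m U h n) : ∀ g, g ∈ ReeSplit.bSub D ↔ ∃ t u v a, g = U t u v * h a := fun _ => Iff.rfl

/-- the points -/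
noncomputable def eO (D : Data m U h n) : Option (K × K × K) ≃ G ⧸ ReeSplit.bSub D := by
  refine Equiv.ofBijective (fun o => o.elim ((1 : G) : G ⧸ ReeSplit.bSub D)
    (fun x => ((U x.1 x.2.1 x.2.2 * n : G) : G ⧸ ReeSplit.bSub D))) ⟨?_, ?_⟩
  · intro o o' he
    cases o with
    | none =>
      cases o' with
      | none => rfl
      | some x => exact absurd he (ReeThree.one_ne D _ (hB D) _ _ _)
    | some x =>
      cases o' with
      | none => exact absurd he.symm (ReeThree.one_ne D _ (hB D) _ _ _)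
      | some x' =>
        obtain ⟨h1, h2, h3⟩ := ReeThree.Un_inj D _ (hB D) _ _ _ _ _ _ he
        rw [Prod.ext h1 (Prod.ext h2 h3)]
  · intro y
    rcases ReeThree.coset_cases D _ (hB D) y with h1 | ⟨t, u, v, h1⟩
    · exact ⟨none, h1.symm⟩
    · exact ⟨some (t, u, v), h1.symm⟩

theorem card_O (D : Data m U h n) (hK : Fintype.card K = 3 ^ (2 * m + 1)) [Fintype (G ⧸ ReeSplit.bSub D)] :
    ((Fintype.card (G ⧸ ReeSplit.bSub D) : ℕ) : ZMod 3) = 1 := by
  rw [← Fintype.card_congr (eO D), Fintype.card_option, Fintype.card_prod, Nat.cast_add, Nat.cast_mul,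
    card_K_zero hK, zero_mul, zero_add, Nat.cast_one]

theorem card_U (D : Data m U h n) (hK : Fintype.card K = 3 ^ (2 * m + 1)) [Fintype (ReeSylowThree.uSub D)] :
    ((Fintype.card (ReeSylowThree.uSub D) : ℕ) : ZMod 3) = 0 := by
  rw [← Fintype.card_congr (eU D), Fintype.card_prod, Nat.cast_mul, card_K_zero hK, zero_mul]

theorem mem_B_iff (D : Data m U h n) (g : G) :
    g • ((1 : G) : G ⧸ ReeSplit.bSub D) = ((1 : G) : G ⧸ ReeSplit.bSub D) ↔ g ∈ ReeSplit.bSub D := by
  rw [← MulAction.mem_stabilizer_iff]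
  exact ReeThree.mem_stab_one D _ (hB D) g

section F

variable [Finite G]

/-- the fixed points of the elements of a coset of `U` -/
theorem sum_fix (D : Data m U h n) (hK : Fintype.card K = 3 ^ (2 * m + 1)) [Fintype (ReeSylowThree.uSub D)]
    [DecidableEq (G ⧸ ReeSplit.bSub D)] (g : G) (ω : G ⧸ ReeSplit.bSub D) :
    ∑ w : ReeSylowThree.uSub D, (if (g * (w : G)) • ω = ω then (1 : ZMod 3) else 0) =
      if ω = ((1 : G) : G ⧸ ReeSplit.bSub D) then 0
      else (if ω = g • ((1 : G) : G ⧸ ReeSplit.bSub D) then 0 else 1) := by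
  by_cases h1 : ω = ((1 : G) : G ⧸ ReeSplit.bSub D)
  · rw [if_pos h1]
    have h2 : ∀ w : ReeSylowThree.uSub D, (if (g * (w : G)) • ω = ω then (1 : ZMod 3) else 0) =
        if g • ω = ω then (1 : ZMod 3) else 0 := by
      intro w
      have h3 : (w : G) • ω = ω := by
        rw [h1, mem_B_iff]
        obtain ⟨x, y, z, hw⟩ := w.2
        exact ⟨x, y, z, 1, by rw [D.h_one, mul_one, hw]⟩
      rw [mul_smul, h3]
    rw [Finset.sum_congr rfl (fun w _ => h2 w), Finset.sum_const, Finset.card_univ, nsmul_eq_mul,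
      card_U D hK, zero_mul]
  · rw [if_neg h1]
    rcases ReeThree.coset_cases D _ (hB D) ω with h2 | ⟨t, u, v, h2⟩
    · exact absurd h2 h1
    by_cases h3 : ω = g • ((1 : G) : G ⧸ ReeSplit.bSub D)
    · rw [if_pos h3]
      apply Finset.sum_eq_zero
      intro w _
      rw [if_neg]
      intro h4
      rw [mul_smul, ← eq_inv_smul_iff, h3, inv_smul_smul, smul_eq_iff_eq_inv_smul] at h4
      apply h1
      rw [h3, h4]
      have h5 : (w : G)⁻¹ ∈ ReeSplit.bSub D := by
        apply inv_mem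
        obtain ⟨x, y, z, hw⟩ := w.2
        exact ⟨x, y, z, 1, by rw [D.h_one, mul_one, hw]⟩
      exact (mem_B_iff D _).2 h5
    · rw [if_neg h3]
      rcases ReeThree.coset_cases D _ (hB D) (g⁻¹ • ω) with h4 | ⟨t', u', v', h4⟩
      · exfalso
        apply h3
        rw [← h4, smul_inv_smul]
      · set w0 : ReeSylowThree.uSub D := ⟨U t' u' v' * (U t u v)⁻¹,
          mul_mem ⟨_, _, _, rfl⟩ (inv_mem ⟨_, _, _, rfl⟩)⟩ with hw0
        rw [Finset.sum_eq_single w0]
        · rw [if_pos]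
          rw [mul_smul, ← eq_inv_smul_iff, h4, h2]
          show (((U t' u' v' * (U t u v)⁻¹) * (U t u v * n) : G) : G ⧸ ReeSplit.bSub D) = _
          congr 1
          group
        · intro w _ hw
          rw [if_neg]
          intro h5
          rw [mul_smul, ← eq_inv_smul_iff, h4, h2] at h5
          obtain ⟨x, y, z, hx⟩ : (w : G) * U t u v ∈ ReeSylowThree.uSub D := mul_mem w.2 ⟨_, _, _, rfl⟩
          have h6 : (((w : G) * (U t u v * n) : G) : G ⧸ ReeSplit.bSub D) =
            ((U t' u' v' * n : G) : G ⧸ ReeSplit.bSub D) := h5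
          rw [← mul_assoc, hx] at h6
          obtain ⟨e1, e2, e3⟩ := ReeThree.Un_inj D _ (hB D) _ _ _ _ _ _ h6
          apply hw
          apply Subtype.ext
          rw [hw0]
          simp only
          rw [eq_mul_inv_iff_mul_eq, hx, e1, e2, e3]
        · intro h5
          exact absurd (Finset.mem_univ _) h5

theorem sum_F_U (D : Data m U h n) (hK : Fintype.card K = 3 ^ (2 * m + 1)) [Fintype (ReeSylowThree.uSub D)]
    [Fintype (G ⧸ ReeSplit.bSub D)] [DecidableEq (G ⧸ ReeSplit.bSub D)] (g : G) :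
    ∑ w : ReeSylowThree.uSub D, F (ZMod 3) (G ⧸ ReeSplit.bSub D) (g * w) =
      if g • ((1 : G) : G ⧸ ReeSplit.bSub D) = ((1 : G) : G ⧸ ReeSplit.bSub D) then 0 else -1 := by
  unfold F
  rw [Finset.sum_comm, Finset.sum_congr rfl (fun ω _ => sum_fix D hK g ω)]
  have h1 : ∀ ω : G ⧸ ReeSplit.bSub D, (if ω = ((1 : G) : G ⧸ ReeSplit.bSub D) then (0 : ZMod 3)
      else (if ω = g • ((1 : G) : G ⧸ ReeSplit.bSub D) then 0 else 1)) =
      1 - (if ω = ((1 : G) : G ⧸ ReeSplit.bSub D) then 1 else 0) -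
      (if ω = g • ((1 : G) : G ⧸ ReeSplit.bSub D) then
        (if g • ((1 : G) : G ⧸ ReeSplit.bSub D) = ((1 : G) : G ⧸ ReeSplit.bSub D) then 0 else 1) else 0) := by
    intro ω
    by_cases h2 : ω = ((1 : G) : G ⧸ ReeSplit.bSub D)
    · rw [if_pos h2, if_pos h2]
      by_cases h3 : ω = g • ((1 : G) : G ⧸ ReeSplit.bSub D)
      · rw [if_pos h3, if_pos (by rw [← h3, h2])]
        ring
      · rw [if_neg h3]
        ring
    · rw [if_neg h2, if_neg h2]
      by_cases h3 : ω = g • ((1 : G) : G ⧸ ReeSplit.bSub D)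
      · rw [if_pos h3, if_pos h3, if_neg (fun h4 => h2 (h3.trans h4))]
        ring
      · rw [if_neg h3, if_neg h3]
        ring
  rw [Finset.sum_congr rfl (fun ω _ => h1 ω), Finset.sum_sub_distrib, Finset.sum_sub_distrib,
    Finset.sum_const, Finset.card_univ, nsmul_eq_mul, card_O D hK, Finset.sum_ite_eq' ,
    Finset.sum_ite_eq', if_pos (Finset.mem_univ _), if_pos (Finset.mem_univ _)]
  split_ifs <;> ring

/-- one-point transitivity -/
theorem sum_one [Fintype G] (D : Data m U h n) (hK : Fintype.card K = 3 ^ (2 * m + 1))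
    [DecidableEq (G ⧸ ReeSplit.bSub D)] (ω π : G ⧸ ReeSplit.bSub D) :
    ∑ a : G, (if a • ω = π then (1 : ZMod 3) else 0) = 0 := by
  classical
  obtain ⟨x, rfl⟩ := QuotientGroup.mk_surjective ω
  obtain ⟨y, rfl⟩ := QuotientGroup.mk_surjective π
  rw [← Equiv.sum_comp ((Equiv.mulLeft y).trans (Equiv.mulRight x⁻¹))]
  have h1 : ∀ a : G, (if (((Equiv.mulLeft y).trans (Equiv.mulRight x⁻¹)) a) •
      ((x : G) : G ⧸ ReeSplit.bSub D) = ((y : G) : G ⧸ ReeSplit.bSub D) then (1 : ZMod 3) else 0) =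
      if a ∈ ReeSplit.bSub D then 1 else 0 := by
    intro a
    have h2 : (((Equiv.mulLeft y).trans (Equiv.mulRight x⁻¹)) a) •
      ((x : G) : G ⧸ ReeSplit.bSub D) = ((y * a : G) : G ⧸ ReeSplit.bSub D) := by
      simp only [Equiv.trans_apply, Equiv.coe_mulLeft, Equiv.coe_mulRight]
      show ((y * a * x⁻¹ * x : G) : G ⧸ ReeSplit.bSub D) = _
      congr 1
      group
    have h3 : ((y * a : G) : G ⧸ ReeSplit.bSub D) = ((y : G) : G ⧸ ReeSplit.bSub D) ↔
        a ∈ ReeSplit.bSub D := by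
      rw [QuotientGroup.eq]
      have : (y * a)⁻¹ * y = a⁻¹ := by group
      rw [this, inv_mem_iff]
    rw [h2]
    by_cases h4 : a ∈ ReeSplit.bSub D
    · rw [if_pos (h3.2 h4), if_pos h4]
    · rw [if_neg (fun h5 => h4 (h3.1 h5)), if_neg h4]
  rw [Finset.sum_congr rfl (fun a _ => h1 a), Finset.sum_boole, ← Fintype.card_subtype,
    ← Nat.card_eq_fintype_card]
  have h2 : Nat.card {x : G // x ∈ ReeSplit.bSub D} = (Fintype.card K) ^ 3 * (Fintype.card K - 1) :=
    ReeSplit.card_bSub D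
  rw [h2, Nat.cast_mul, Nat.cast_pow, card_K_zero hK]
  ring

/-- two-point transitivity -/
theorem sum_two [Fintype G] (D : Data m U h n) (hK : Fintype.card K = 3 ^ (2 * m + 1))
    [DecidableEq (G ⧸ ReeSplit.bSub D)] (ω₁ ω₂ π₁ π₂ : G ⧸ ReeSplit.bSub D) (hω : ω₁ ≠ ω₂) (hπ : π₁ ≠ π₂) :
    ∑ a : G, (if a • ω₁ = π₁ ∧ a • ω₂ = π₂ then (1 : ZMod 3) else 0) = -1 := by
  classical
  obtain ⟨g₁, h1, h2⟩ := ReeThree.two_transitive D _ (hB D) ω₁ ω₂ hω
  obtain ⟨g₂, h3, h4⟩ := ReeThree.two_transitive D _ (hB D) π₁ π₂ hπ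
  rw [← Equiv.sum_comp ((Equiv.mulLeft g₂⁻¹).trans (Equiv.mulRight g₁))]
  have h5 : ∀ a : G, (if (((Equiv.mulLeft g₂⁻¹).trans (Equiv.mulRight g₁)) a) • ω₁ = π₁ ∧
      (((Equiv.mulLeft g₂⁻¹).trans (Equiv.mulRight g₁)) a) • ω₂ = π₂ then (1 : ZMod 3) else 0) =
      if a ∈ ReeSplit.hSub D then 1 else 0 := by
    intro a
    have h6 : ((((Equiv.mulLeft g₂⁻¹).trans (Equiv.mulRight g₁)) a) • ω₁ = π₁ ∧
      (((Equiv.mulLeft g₂⁻¹).trans (Equiv.mulRight g₁)) a) • ω₂ = π₂) ↔ a ∈ ReeSplit.hSub D := by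
      simp only [Equiv.trans_apply, Equiv.coe_mulLeft, Equiv.coe_mulRight]
      rw [mul_smul, mul_smul, mul_smul, mul_smul, h1, h2, inv_smul_eq_iff, inv_smul_eq_iff, h3, h4,
        ReeSplit.mem_hSub D, ← ReeThree.mem_stab_two D _ (hB D), Subgroup.mem_inf,
        MulAction.mem_stabilizer_iff, MulAction.mem_stabilizer_iff]
    by_cases h7 : a ∈ ReeSplit.hSub D
    · rw [if_pos (h6.2 h7), if_pos h7]
    · rw [if_neg (fun h8 => h7 (h6.1 h8)), if_neg h7]
  rw [Finset.sum_congr rfl (fun a _ => h5 a), Finset.sum_boole, ← Fintype.card_subtype,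
    ← Nat.card_eq_fintype_card]
  have h6 : Nat.card {x : G // x ∈ ReeSplit.hSub D} = Fintype.card K - 1 := ReeSplit.card_hSub D
  have h7 : 1 ≤ Fintype.card K := Fintype.card_pos
  rw [h6, Nat.cast_sub h7, card_K_zero hK]
  ring

/-- the fixed points of the elements considered -/
theorem F_reg [Fintype G] (D : Data m U h n) (hK : Fintype.card K = 3 ^ (2 * m + 1)) (hG : commutator G = ⊤)
    [Fintype (G ⧸ ReeSplit.bSub D)] [DecidableEq (G ⧸ ReeSplit.bSub D)] {x : G} (hx : Reg x) :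
    F (ZMod 3) (G ⧸ ReeSplit.bSub D) x = 0 ∨ F (ZMod 3) (G ⧸ ReeSplit.bSub D) x = 2 := by
  classical
  by_cases h0 : ∃ ω : G ⧸ ReeSplit.bSub D, x • ω = ω
  · right
    obtain ⟨ω, hω⟩ := h0
    obtain ⟨g, rfl⟩ := QuotientGroup.mk_surjective ω
    have hxB : g⁻¹ * x * g ∈ ReeSplit.bSub D := by
      rw [← mem_B_iff]
      rw [mul_smul, mul_smul, inv_smul_eq_iff]
      have h1 : g • ((1 : G) : G ⧸ ReeSplit.bSub D) = ((g : G) : G ⧸ ReeSplit.bSub D) := by
        show ((g * 1 : G) : G ⧸ ReeSplit.bSub D) = _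
        rw [mul_one]
      rw [h1]
      exact hω
    have := ReeAbs.charP_three hK
    have Dl := ReeSetup.local_of_data D hK
    obtain ⟨f, t₀, S⟩ := ReeSetup.exists_setup D hK hG Dl
    have hd : orderOf x ∣ 3 ^ (2 * m + 1) - 1 := by
      have h1 := orderOf_dvd_natCard (⟨_, hxB⟩ : ReeSplit.bSub D)
      rw [Subgroup.orderOf_mk, ReeClass.orderOf_conj, ReeSplit.card_bSub D, hK] at h1
      have h2 : Nat.Coprime (orderOf x) ((3 ^ (2 * m + 1)) ^ 3) := by
        rw [← pow_mul]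
        exact Nat.Coprime.pow_right _ ((Nat.Prime.coprime_iff_not_dvd Nat.prime_three).2 hx.2).symm
      exact h2.dvd_of_dvd_mul_left h1
    obtain ⟨k, hk⟩ := H125.ReeFull.conj_hSub D hK S hx.1 hd
    obtain ⟨c, hc⟩ := (ReeSplit.mem_hSub D).1 hk
    have hxc : x = k * h c * k⁻¹ := by rw [← hc]; group
    rw [hxc, F_conj]
    have hc2 : c ≠ 1 ∧ c ≠ -1 := by
      have h1 := hx.sq_ne
      rw [hxc] at h1
      constructor
      · rintro rfl
        rw [D.h_one] at h1
        exact h1 (by group)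
      · rintro rfl
        apply h1
        rw [conj_pow, pow_two, D.inv_sq]
        group
    unfold F
    rw [← Equiv.sum_comp (eO D), Fintype.sum_option]
    have h1 : h c • (eO D none) = eO D none := by
      show h c • ((1 : G) : G ⧸ ReeSplit.bSub D) = ((1 : G) : G ⧸ ReeSplit.bSub D)
      rw [mem_B_iff]
      exact ReeSplit.h_mem_bSub D c
    have h2 : ∀ y : K × K × K, (h c • (eO D (some y)) = eO D (some y)) ↔ y = 0 := by
      rintro ⟨t, u, v⟩
      have h3 := ReeThree.h_mem_stab_iff D _ (hB D) c t u v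
      rw [MulAction.mem_stabilizer_iff] at h3
      have h4 : (h c • (eO D (some (t, u, v))) = eO D (some (t, u, v))) ↔
        (c : K) ^ (3 ^ (m + 1)) * t = t ∧ (c : K) ^ (3 ^ (m + 1) + 3) * u = u ∧
          (c : K) ^ (2 * 3 ^ (m + 1) + 3) * v = v := h3
      rw [h4]
      constructor
      · rintro ⟨e1, e2, e3⟩
        by_contra hne
        have h5 := ReeThree.unit_of_fix hK c t u v (by
          rintro ⟨rfl, rfl, rfl⟩
          exact hne rfl) e1 e2 e3
        rcases h5 with h5 | h5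
        · exact hc2.1 h5
        · exact hc2.2 h5
      · intro h5
        rw [Prod.ext_iff, Prod.ext_iff] at h5
        obtain ⟨rfl, rfl, rfl⟩ := h5
        simp
    rw [if_pos h1]
    have h5 : ∀ y : K × K × K, (if h c • (eO D (some y)) = eO D (some y) then (1 : ZMod 3) else 0) =
        if y = 0 then 1 else 0 := by
      intro y
      by_cases h6 : y = 0
      · rw [if_pos h6, if_pos ((h2 y).2 h6)]
      · rw [if_neg h6, if_neg (fun h7 => h6 ((h2 y).1 h7))]
    rw [Finset.sum_congr rfl (fun y _ => h5 y), Finset.sum_ite_eq', if_pos (Finset.mem_univ _)]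
    decide
  · left
    push Not at h0
    unfold F
    apply Finset.sum_eq_zero
    intro ω _
    rw [if_neg (h0 ω)]

end F

/-- a product of two conjugates of `x` is an involution -/
theorem exists_invol [Finite G] (D : Data m U h n) (hK : Fintype.card K = 3 ^ (2 * m + 1))
    (hG : commutator G = ⊤) {x : G} (hx : Reg x) :
    ∃ a : G, (a * x * a⁻¹ * x ≠ 1) ∧ (a * x * a⁻¹ * x) * (a * x * a⁻¹ * x) = 1 := by
  classical
  have := Fintype.ofFinite G
  have := Fintype.ofFinite (ReeSylowThree.uSub D)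
  have := Fintype.ofFinite (G ⧸ ReeSplit.bSub D)
  have : Fact (Nat.Prime 3) := ⟨Nat.prime_three⟩
  set ψ : G → ZMod 3 := fun g => I g - (1 - F (ZMod 3) (G ⧸ ReeSplit.bSub D) g) with hψ
  have h1 : ∀ g x, ψ (g * x * g⁻¹) = ψ x := by
    intro g x
    rw [hψ]
    simp only
    rw [I_conj, F_conj]
  have h2 : ∀ g, ∑ w : ReeSylowThree.uSub D, ψ (g * w) = 0 := by
    intro g
    rw [hψ]
    simp only
    rw [Finset.sum_sub_distrib, Finset.sum_sub_distrib, sum_F_U D hK, Finset.sum_const, Finset.card_univ,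
      nsmul_eq_mul, card_U D hK, zero_mul]
    by_cases hg : g ∈ ReeSplit.bSub D
    · rw [sum_I_B D hK hg, if_pos ((mem_B_iff D g).2 hg)]
      ring
    · rw [sum_I_notB D hg, if_neg (fun h => hg ((mem_B_iff D g).1 h))]
      ring
  have hP : IsPGroup 3 (ReeSylowThree.uSub D) := by
    apply IsPGroup.of_card (n := (2 * m + 1) * 3)
    rw [ReeSylowThree.card_uSub D, hK, ← pow_mul]
  have h3 := ModTrace.sum_conj_eq_zero (ReeSylowThree.uSub D) hP ψ h1 h2 x x
  rw [hψ] at h3
  simp only at h3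
  have hcG : ((Fintype.card G : ℕ) : ZMod 3) = 0 := by
    rw [← Nat.card_eq_fintype_card, ReeSylowThree.card_eq D, Nat.cast_mul, Nat.cast_mul, Nat.cast_pow,
      card_K_zero hK]
    ring
  rw [Finset.sum_sub_distrib, Finset.sum_sub_distrib, Finset.sum_const, Finset.card_univ,
    nsmul_eq_mul, hcG, sum_F (0 : ZMod 3) (-1) (sum_one D hK) (fun a b c d => sum_two D hK a b c d),
    card_O D hK] at h3
  by_contra hno
  push Not at hno
  have h4 : ∑ a : G, I (a * x * a⁻¹ * x) = 0 := by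
    apply Finset.sum_eq_zero
    intro a _
    apply I_not
    rintro ⟨h5, h6⟩
    exact hno a h5 h6
  rw [h4] at h3
  rcases F_reg D hK hG hx with h5 | h5
  · rw [h5] at h3
    exact one_ne_zero (α := ZMod 3) (by linear_combination -h3)
  · rw [h5] at h3
    exact one_ne_zero (α := ZMod 3) (by linear_combination -h3)

end Cfsg.Agent.H147.ReeInvol
end
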