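import Cfsg.Agent.H686.CharKit
import Cfsg.Agent.Characters.ClassMul
set_option linter.all false

/-!
# Products of two conjugates: the crude character bound

If `(|C(x)| - 1) √|C(g)|` is smaller than the degree of every nonprincipal irreducible character, then `g` is a
product of two conjugates of `x`.
-/

set_option autoImplicit false

namespace Cfsg.Agent.H147.CharBound

open Cfsg Cfsg.Agent.Characters
open scoped ComplexConjugate

universe u

variable {G : Type u} [Group G] [Finite G]

theorem norm_le_sqrt [Fintype (IrrCharacter G)] (g : G) (χ : IrrCharacter G) :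
    ‖(χ : G → ℂ) g‖ ≤ Real.sqrt (Nat.card (Subgroup.centralizer ({g} : Set G))) := by
  apply Real.le_sqrt_of_sq_le
  rw [← H686.CharKit.sum_normSq g, ← Complex.normSq_eq_norm_sq]
  exact Finset.single_le_sum (f := fun χ : IrrCharacter G => Complex.normSq ((χ : G → ℂ) g))
    (fun i _ => Complex.normSq_nonneg _) (Finset.mem_univ χ)

/-- the crude character bound -/
theorem exists_pair (x g : G) (d : ℝ) (hd0 : 0 < d)
    (hd : ∀ χ : IrrCharacter G, (χ : G → ℂ) ≠ 1 → d ≤ ‖(χ : G → ℂ) 1‖)
    (hb : ((Nat.card (Subgroup.centralizer ({x} : Set G)) : ℝ) - 1) *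
      Real.sqrt (Nat.card (Subgroup.centralizer ({g} : Set G))) < d) :
    ∃ y z : G, IsConj x y ∧ IsConj x z ∧ g = y * z := by
  classical
  have : Finite (IrrCharacter G) := Core.finite_irr
  have := Fintype.ofFinite (IrrCharacter G)
  by_contra hno
  push Not at hno
  have h0 : Nat.card {p : G × G // IsConj x p.1 ∧ IsConj x p.2 ∧ p.1 * p.2 = g} = 0 := by
    rw [Finite.card_eq_zero_iff]
    refine ⟨?_⟩
    rintro ⟨⟨y, z⟩, h1, h2, h3⟩
    exact hno y z h1 h2 h3.symm
  have h1 := ClassMul.card_class_mul x x g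
  rw [h0, Nat.cast_zero] at h1
  have hne : (((Subgroup.centralizer ({x} : Set G)).index : ℂ)) ≠ 0 := by
    exact_mod_cast Subgroup.index_ne_zero_of_finite
  have hG : (Nat.card G : ℂ) ≠ 0 := by exact_mod_cast Nat.card_pos.ne'
  have h2 : ∑ χ : IrrCharacter G,
        (χ : G → ℂ) x * (χ : G → ℂ) x * conj ((χ : G → ℂ) g) / (χ : G → ℂ) 1 = 0 := by
    rcases mul_eq_zero.1 h1.symm with h | h
    · exfalso
      exact (div_ne_zero (mul_ne_zero hne hne) hG) h
    · exact h
  set one : IrrCharacter G := ⟨1, Core.isIrr_one⟩ with hone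
  rw [← Finset.add_sum_erase Finset.univ _ (Finset.mem_univ one)] at h2
  have h3 : ((one : G → ℂ) x * (one : G → ℂ) x * conj ((one : G → ℂ) g) / (one : G → ℂ) 1) = 1 := by
    simp [hone]
  rw [h3] at h2
  have h4 : ∑ χ ∈ Finset.univ.erase one,
        (χ : G → ℂ) x * (χ : G → ℂ) x * conj ((χ : G → ℂ) g) / (χ : G → ℂ) 1 = -1 := by
    linear_combination h2
  have h5 : (1 : ℝ) ≤ ∑ χ ∈ Finset.univ.erase one,
      Complex.normSq ((χ : G → ℂ) x) * (Real.sqrt (Nat.card (Subgroup.centralizer ({g} : Set G))) / d) := by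
    calc (1 : ℝ) = ‖∑ χ ∈ Finset.univ.erase one,
          (χ : G → ℂ) x * (χ : G → ℂ) x * conj ((χ : G → ℂ) g) / (χ : G → ℂ) 1‖ := by rw [h4]; simp
      _ ≤ ∑ χ ∈ Finset.univ.erase one,
          ‖(χ : G → ℂ) x * (χ : G → ℂ) x * conj ((χ : G → ℂ) g) / (χ : G → ℂ) 1‖ := norm_sum_le _ _
      _ ≤ _ := by
        apply Finset.sum_le_sum
        intro χ hχ
        have hχ1 : (χ : G → ℂ) ≠ 1 := by
          intro h
          exact (Finset.ne_of_mem_erase hχ) (Subtype.ext h)
        have e1 := hd χ hχ1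
        have e2 := norm_le_sqrt g χ
        rw [norm_div, norm_mul, norm_mul, Complex.norm_conj, mul_div_assoc, Complex.normSq_eq_norm_sq, sq]
        rw [← sq, ← Complex.normSq_eq_norm_sq]
        apply mul_le_mul_of_nonneg_left _ (Complex.normSq_nonneg _)
        exact div_le_div₀ (Real.sqrt_nonneg _) e2 hd0 e1
  rw [← Finset.sum_mul] at h5
  have h6 : ∑ χ ∈ Finset.univ.erase one, Complex.normSq ((χ : G → ℂ) x) =
      (Nat.card (Subgroup.centralizer ({x} : Set G)) : ℝ) - 1 := by
    have := H686.CharKit.sum_normSq x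
    rw [← Finset.add_sum_erase Finset.univ _ (Finset.mem_univ one)] at this
    have h7 : Complex.normSq ((one : G → ℂ) x) = 1 := by simp [hone]
    rw [h7] at this
    linarith
  rw [h6, ← mul_div_assoc] at h5
  have h8 : ((Nat.card (Subgroup.centralizer ({x} : Set G)) : ℝ) - 1) *
      Real.sqrt (Nat.card (Subgroup.centralizer ({g} : Set G))) / d < 1 := by
    rw [div_lt_one hd0]
    exact hb
  linarith

end Cfsg.Agent.H147.CharBound
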